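import Mathlib.RingTheory.PowerSeries.Basic
import Mathlib.RingTheory.PowerSeries.WellKnown
import Mathlib.LinearAlgebra.Matrix.Block
import Mathlib.Algebra.Polynomial.BigOperators
import Mathlib.Tactic.LinearCombination
import Mathlib.Tactic.Ring

/-! A determinant of coefficients of partial quotients. -/

universe u

namespace Groth.Agent.Combi90

open PowerSeries

variable {R : Type u} [CommRing R]

/-- The factor `1 + a t`. -/
noncomputable def lin (a : R) : R⟦X⟧ := 1 + C a * X

/-- Its inverse. -/
noncomputable def linInv (a : R) : R⟦X⟧ := mk fun m => (-a) ^ m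

lemma lin_mul_linInv (a : R) : lin a * linInv a = 1 := by
  ext n
  cases n with
  | zero => simp [lin, linInv]
  | succ n =>
    rw [lin, add_mul, one_mul, map_add, mul_assoc, coeff_C_mul, coeff_succ_X_mul]
    simp [linInv, pow_succ]
    ring

lemma coeff_prod_lin_eq_zero {ι : Type*} (s : Finset ι) (a : ι → R) (m : ℕ) (h : s.card < m) :
    coeff m (∏ i ∈ s, lin (a i)) = 0 := by
  classical
  induction s using Finset.induction generalizing m with
  | empty =>
    have : m ≠ 0 := by simpa using h.ne'
    simp [coeff_one, this]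
  | insert i s hi ih =>
    rw [Finset.card_insert_of_notMem hi] at h
    obtain ⟨m, rfl⟩ := Nat.exists_eq_succ_of_ne_zero (by omega : m ≠ 0)
    rw [Finset.prod_insert hi, lin, add_mul, one_mul, map_add, mul_assoc, coeff_C_mul, coeff_succ_X_mul,
      ih (m + 1) (by omega), ih m (by omega)]
    simp

lemma coeff_prod_lin_mul_linInv (a : R) {ι : Type*} (s : Finset ι) (b : ι → R) :
    coeff s.card ((∏ i ∈ s, lin (b i)) * linInv a) = ∏ i ∈ s, (b i - a) := by
  classical
  induction s using Finset.induction with
  | empty => simp [linInv]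
  | insert i s hi ih =>
    rw [Finset.card_insert_of_notMem hi, Finset.prod_insert hi, Finset.prod_insert hi, mul_assoc]
    set Q := (∏ i ∈ s, lin (b i)) * linInv a with hQ
    have h1 : coeff (s.card + 1) Q = -a * coeff s.card Q := by
      have hz : lin a * Q = ∏ i ∈ s, lin (b i) := by
        rw [hQ, mul_left_comm, lin_mul_linInv, mul_one]
      have := congrArg (coeff (s.card + 1)) hz
      rw [coeff_prod_lin_eq_zero s b (s.card + 1) (Nat.lt_succ_self _), lin, add_mul, one_mul, map_add,
        mul_assoc, coeff_C_mul, coeff_succ_X_mul] at this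
      linear_combination this
    rw [lin, add_mul, one_mul, map_add, mul_assoc, coeff_C_mul, coeff_succ_X_mul, h1, ih]
    ring

theorem det_partialQuotients (d e : ℕ) (α : Fin d → R) (β : Fin e → R) :
    ∏ i : Fin d, ∏ j : Fin e, (β j - α i) =
      (Matrix.of fun i j : Fin d =>
        if (i : ℕ) ≤ e + (j : ℕ) then
          coeff (e + (j : ℕ) - (i : ℕ)) ((∏ j : Fin e, lin (β j)) *
            ∏ l : Fin d, if l ≤ i then linInv (α l) else 1)
        else 0).det := by
  classical
  set b := ∏ j : Fin e, lin (β j)
  let P : Fin d → R⟦X⟧ := fun i => b * ∏ l : Fin d, if l ≤ i then linInv (α l) else 1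
  let q : Fin d → R⟦X⟧ := fun j => ∏ l ∈ Finset.Iio j, lin (α l)
  set M : Matrix (Fin d) (Fin d) R := Matrix.of fun i j : Fin d =>
    if (i : ℕ) ≤ e + (j : ℕ) then coeff (e + (j : ℕ) - (i : ℕ)) (P i) else 0
  let Cm : Matrix (Fin d) (Fin d) R := Matrix.of fun k j =>
    if k ≤ j then coeff ((j : ℕ) - (k : ℕ)) (q j) else 0
  have hC : Cm.det = 1 := by
    rw [Matrix.det_of_isUpperTriangular]
    · refine Finset.prod_eq_one fun i _ => ?_
      simp [Cm, q, coeff_zero_eq_constantCoeff, map_prod, lin]
    · intro k j (h : j < k)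
      simp [Cm, not_le.mpr h]
  have hentry : ∀ i j : Fin d, (M * Cm) i j =
      if (i : ℕ) ≤ e + (j : ℕ) then coeff (e + (j : ℕ) - (i : ℕ)) (q j * P i) else 0 := by
    intro i j
    rw [Matrix.mul_apply]
    simp only [M, Cm, Matrix.of_apply]
    by_cases hij : (i : ℕ) ≤ e + (j : ℕ)
    · rw [if_pos hij, coeff_mul]
      symm
      refine Finset.sum_bij_ne_zero (fun p hp hne => ⟨(j : ℕ) - p.1, by omega⟩) (fun _ _ _ => Finset.mem_univ _)
        ?_ ?_ ?_
      · rintro ⟨a, a'⟩ h1 h1' ⟨c, c'⟩ h2 h2' heq
        simp only [Finset.HasAntidiagonal.mem_antidiagonal] at h1 h2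
        have ha : a ≤ (j : ℕ) := by
          by_contra hgt
          exact h1' (by rw [show coeff a (q j) = 0 from coeff_prod_lin_eq_zero _ _ _ (by simp; omega), zero_mul])
        have hc : c ≤ (j : ℕ) := by
          by_contra hgt
          exact h2' (by rw [show coeff c (q j) = 0 from coeff_prod_lin_eq_zero _ _ _ (by simp; omega), zero_mul])
        simp only [Fin.mk.injEq] at heq
        ext <;> simp <;> omega
      · intro k _ hk
        have h1 : k ≤ j := by
          by_contra h; simp [h] at hk
        have h2 : (i : ℕ) ≤ e + (k : ℕ) := by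
          by_contra h; simp [h] at hk
        rw [if_pos h1, if_pos h2] at hk
        refine ⟨((j : ℕ) - k, e + (k : ℕ) - i), ?_, ?_, ?_⟩
        · simp only [Finset.HasAntidiagonal.mem_antidiagonal]
          have : (k : ℕ) ≤ j := h1
          omega
        · rw [mul_comm]; exact hk
        · ext
          have : (k : ℕ) ≤ j := h1
          simp
          omega
      · rintro ⟨a, a'⟩ h1 h1'
        simp only [Finset.HasAntidiagonal.mem_antidiagonal] at h1
        have ha : a ≤ (j : ℕ) := by
          by_contra hgt
          exact h1' (by rw [show coeff a (q j) = 0 from coeff_prod_lin_eq_zero _ _ _ (by simp; omega), zero_mul])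
        have h3 : (⟨(j : ℕ) - a, by omega⟩ : Fin d) ≤ j := by simp [Fin.le_def]
        have h4 : (i : ℕ) ≤ e + ((j : ℕ) - a) := by omega
        simp only [if_pos h3, if_pos h4]
        rw [show e + ((j : ℕ) - a) - i = a' by omega, show (j : ℕ) - ((j : ℕ) - a) = a by omega, mul_comm]
    · rw [if_neg hij]
      refine Finset.sum_eq_zero fun k _ => ?_
      by_cases hk : k ≤ j
      · have : ¬ (i : ℕ) ≤ e + (k : ℕ) := by
          have : (k : ℕ) ≤ j := hk
          omega
        simp [this]
      · simp [hk]
  have hPi : ∀ i : Fin d, P i = b * ∏ l ∈ Finset.Iic i, linInv (α l) := fun i => by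
    simp only [P, Finset.prod_ite, Finset.prod_const_one, mul_one]
    congr 2
    ext l; simp
  have hone : ∀ s : Finset (Fin d), (∏ l ∈ s, lin (α l)) * ∏ l ∈ s, linInv (α l) = 1 := fun s => by
    rw [← Finset.prod_mul_distrib]
    exact Finset.prod_eq_one fun l _ => lin_mul_linInv _
  rw [← mul_one M.det, ← hC, ← Matrix.det_mul, Matrix.det_of_isLowerTriangular]
  · refine Finset.prod_congr rfl fun i _ => ?_
    rw [hentry, if_pos (by omega), Nat.add_sub_cancel, hPi]
    have : q i * (b * ∏ l ∈ Finset.Iic i, linInv (α l)) = b * linInv (α i) := by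
      rw [← Finset.Iio_insert i, Finset.prod_insert (by simp)]
      linear_combination (b * linInv (α i)) * hone (Finset.Iio i)
    rw [this, ← coeff_prod_lin_mul_linInv (α i) Finset.univ β, Finset.card_univ, Fintype.card_fin]
  · intro i j (h : i < j)
    have hlt : (i : ℕ) < (j : ℕ) := h
    rw [hentry, if_pos (by omega), hPi]
    have hsub : Finset.Iic i ⊆ Finset.Iio j := fun l hl => by
      simp only [Finset.mem_Iic, Finset.mem_Iio] at hl ⊢
      exact lt_of_le_of_lt hl h
    have : q j * (b * ∏ l ∈ Finset.Iic i, linInv (α l)) =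
        b * ∏ l ∈ Finset.Iio j \ Finset.Iic i, lin (α l) := by
      simp only [q]
      rw [← Finset.prod_sdiff hsub]
      linear_combination (b * ∏ l ∈ Finset.Iio j \ Finset.Iic i, lin (α l)) * hone (Finset.Iic i)
    rw [this, coeff_mul]
    refine Finset.sum_eq_zero fun p hp => ?_
    simp only [Finset.HasAntidiagonal.mem_antidiagonal] at hp
    by_cases h1 : e < p.1
    · rw [coeff_prod_lin_eq_zero Finset.univ β p.1 (by simpa using h1), zero_mul]
    · rw [coeff_prod_lin_eq_zero _ α p.2 (by rw [Finset.card_sdiff_of_subset hsub]; simp; omega), mul_zero]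

end Groth.Agent.Combi90
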