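import Mathlib.RingTheory.PowerSeries.Exp
import Mathlib.RingTheory.PowerSeries.Derivative
import Mathlib.RingTheory.PowerSeries.Inverse
import Mathlib.RingTheory.Binomial

/-! The Todd series. -/

namespace Groth.Agent.Combi90

open PowerSeries

local notation "E" => (PowerSeries.exp ℚ)

variable {f : ℚ⟦X⟧}

lemma constantCoeff_exp' : constantCoeff E = 1 := by simp

lemma exp_sub_one_ne_zero : (E - 1 : ℚ⟦X⟧) ≠ 0 := fun h => by
  have := congrArg (coeff 1) h
  simp at this

lemma todd_coeff_zero (hf : f * (E - 1) = X * E) : constantCoeff f = 1 := by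
  have := congrArg (coeff 1) hf
  rw [coeff_mul] at this
  simpa [Finset.Nat.antidiagonal_succ, coeff_succ_X_mul] using this

lemma todd_shift (hf : f * (E - 1) = X * E) (m : ℚ) :
    rescale m E * f - rescale (m - 1) E * f = X * rescale m E := by
  have h1 : rescale m E = rescale (m - 1) E * E := by
    have := exp_mul_exp_eq_exp_add (A := ℚ) (m - 1) 1
    rw [rescale_one] at this
    simpa using this.symm
  rw [h1]
  linear_combination (rescale (m - 1) E) * hf

lemma todd_deriv (hf : f * (E - 1) = X * E) : f * f = (1 + X) * f - X * derivative ℚ f := by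
  have hd := congrArg (derivative ℚ) hf
  simp only [Derivation.leibniz, derivative_X, derivative_exp, map_sub, smul_eq_mul,
    derivative_one, sub_zero] at hd
  have hne : E ≠ 0 := fun h => by
    have := congrArg constantCoeff h
    simp at this
  apply mul_left_cancel₀ hne
  linear_combination f * hd - (derivative ℚ f) * hf

lemma todd_neg_one (hf : f * (E - 1) = X * E) (n : ℕ) :
    coeff (n + 1) (rescale (-1 : ℚ) E * f ^ (n + 1 + 1)) = 0 := by
  have hs := todd_shift hf 0
  rw [rescale_zero, RingHom.comp_apply, constantCoeff_exp', map_one, one_mul, mul_one, zero_sub] at hs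
  have h1 : rescale (-1 : ℚ) E * f ^ (n + 1 + 1) = f ^ (n + 1) - X * (f ^ n * derivative ℚ f) := by
    linear_combination (-(f ^ (n + 1))) * hs + f ^ n * todd_deriv hf
  rw [h1, map_sub, coeff_succ_X_mul]
  have h2 : derivative ℚ (f ^ (n + 1)) = ((n + 1 : ℕ) : ℚ⟦X⟧) * (f ^ n * derivative ℚ f) := by
    rw [derivative_pow, Nat.add_sub_cancel, mul_assoc]
  have h3 := congrArg (coeff n) h2
  rw [coeff_derivative, ← map_natCast (C (R := ℚ)), coeff_C_mul] at h3
  have hpos : ((n + 1 : ℕ) : ℚ) ≠ 0 := Nat.cast_ne_zero.mpr (Nat.succ_ne_zero n)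
  push_cast at h3 hpos
  rw [mul_comm] at h3
  rw [mul_left_cancel₀ hpos h3, sub_self]

theorem todd_coeff (hf : f * (E - 1) = X * E) (m : ℤ) (n : ℕ) :
    coeff n (rescale (m : ℚ) E * f ^ (n + 1)) = ((Ring.choose (m + n : ℤ) n : ℤ) : ℚ) := by
  induction n generalizing m with
  | zero =>
    simp [todd_coeff_zero hf]
    rw [← coeff_zero_eq_constantCoeff_apply, coeff_rescale]; simp
  | succ n ih =>
    have step : ∀ j : ℤ, coeff (n + 1) (rescale (j : ℚ) E * f ^ (n + 1 + 1)) -
        coeff (n + 1) (rescale ((j - 1 : ℤ) : ℚ) E * f ^ (n + 1 + 1)) =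
          ((Ring.choose (j + n : ℤ) n : ℤ) : ℚ) := by
      intro j
      rw [← map_sub, Int.cast_sub, Int.cast_one,
        show rescale (j : ℚ) E * f ^ (n + 1 + 1) - rescale ((j : ℚ) - 1) E * f ^ (n + 1 + 1) =
          X * (rescale (j : ℚ) E * f ^ (n + 1)) from by
            linear_combination f ^ (n + 1) * todd_shift hf (j : ℚ),
        coeff_succ_X_mul, ih]
    have pascal : ∀ j : ℤ, Ring.choose (j + ((n + 1 : ℕ) : ℤ)) (n + 1) -
        Ring.choose ((j - 1) + ((n + 1 : ℕ) : ℤ)) (n + 1) = Ring.choose (j + n : ℤ) n := by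
      intro j
      rw [show j + ((n + 1 : ℕ) : ℤ) = (j + n) + 1 by push_cast; ring,
        Ring.choose_succ_succ, show (j - 1) + ((n + 1 : ℕ) : ℤ) = j + n by push_cast; ring]
      ring
    have base : coeff (n + 1) (rescale ((-1 : ℤ) : ℚ) E * f ^ (n + 1 + 1)) =
        ((Ring.choose ((-1 : ℤ) + ((n + 1 : ℕ) : ℤ)) (n + 1) : ℤ) : ℚ) := by
      rw [show ((-1 : ℤ) : ℚ) = -1 by simp, todd_neg_one hf,
        show (-1 : ℤ) + ((n + 1 : ℕ) : ℤ) = ((n : ℕ) : ℤ) by push_cast; ring, Ring.choose_natCast,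
        Nat.choose_eq_zero_of_lt (Nat.lt_succ_self n)]
      simp
    induction m using Int.inductionOn' (b := -1) with
    | zero => exact base
    | succ k hk hk' =>
      have h1 := step (k + 1)
      have h2 := congrArg (fun z : ℤ => (z : ℚ)) (pascal (k + 1))
      simp only [add_sub_cancel_right] at h1 h2
      push_cast at h1 h2 hk' ⊢
      linarith
    | pred k hk hk' =>
      have h1 := step k
      have h2 := congrArg (fun z : ℤ => (z : ℚ)) (pascal k)
      push_cast at h1 h2 hk' ⊢
      linarith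

/-- The coefficient conditions determine the series. -/
lemma todd_unique {g : ℚ⟦X⟧} (hg : constantCoeff g = 1) (hf : constantCoeff f = 1)
    (h : ∀ n, coeff n (f ^ (n + 1)) = coeff n (g ^ (n + 1))) : f = g := by
  ext n
  induction n using Nat.strong_induction_on with
  | _ n ih =>
    obtain ⟨r, hr⟩ : X ^ n ∣ f - g := by
      rw [X_pow_dvd_iff]
      intro m hm
      rw [map_sub, ih m hm, sub_self]
    have h0 : constantCoeff r = coeff n f - coeff n g := by
      rw [← map_sub, hr, ← coeff_zero_eq_constantCoeff_apply]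
      simpa using (coeff_X_pow_mul r n 0).symm
    have hsum := (Commute.all f g).geom_sum₂_mul (n + 1)
    have h1 := h n
    rw [← sub_eq_zero, ← map_sub, ← hsum, hr] at h1
    rw [show (∑ i ∈ Finset.range (n + 1), f ^ i * g ^ (n + 1 - 1 - i)) * (X ^ n * r) =
      X ^ n * ((∑ i ∈ Finset.range (n + 1), f ^ i * g ^ (n + 1 - 1 - i)) * r) by ring] at h1
    have h2 := coeff_X_pow_mul ((∑ i ∈ Finset.range (n + 1), f ^ i * g ^ (n + 1 - 1 - i)) * r) n 0
    rw [zero_add, h1] at h2
    simp [map_sum, hf, hg, h0] at h2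
    rcases h2 with h2 | h2
    · exfalso; linarith [h2, (Nat.cast_nonneg n : (0 : ℚ) ≤ n)]
    · linarith

lemma exists_todd : ∃ g : ℚ⟦X⟧, g * (E - 1) = X * E := by
  obtain ⟨w, hw⟩ : X ∣ E - 1 := X_dvd_iff.mpr (by simp)
  have hw0 : constantCoeff w = 1 := by
    have := congrArg (coeff 1) hw
    simpa [coeff_succ_X_mul] using this.symm
  refine ⟨w⁻¹ * E, ?_⟩
  rw [hw]
  have := PowerSeries.inv_mul_cancel w (by rw [hw0]; exact one_ne_zero)
  linear_combination (X * E) * this

theorem todd_iff (f : ℚ⟦X⟧) :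
    (∀ n : ℕ, coeff n (f ^ (n + 1)) = 1) ↔ f * (E - 1) = X * E := by
  have key : ∀ {g : ℚ⟦X⟧}, g * (E - 1) = X * E → ∀ n : ℕ, coeff n (g ^ (n + 1)) = 1 := by
    intro g hg n
    have := todd_coeff hg 0 n
    simpa [Ring.choose_natCast] using this
  refine ⟨fun h => ?_, key⟩
  obtain ⟨g, hg⟩ := exists_todd
  have hf0 : constantCoeff f = 1 := by simpa using h 0
  rw [todd_unique (todd_coeff_zero hg) hf0 fun n => (h n).trans (key hg n).symm]
  exact hg

end Groth.Agent.Combi90
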